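import Groth.Agent.GmPic.H1
import Groth.Agent.EtMVLib.PullSec
import Groth.Agent.EtMVLib.HpullApply

/-!
# Classes in the first étale cohomology of the multiplicative group are Zariski locally trivial
-/

set_option autoImplicit false
set_option backward.isDefEq.respectTransparency false
set_option backward.isDefEq.respectTransparency.types false
set_option linter.style.haveILetI false

universe u

open CategoryTheory CategoryTheory.Limits AlgebraicGeometry Opposite CategoryTheory.Abelian

namespace Groth.Agent.GmPic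

variable {X : Scheme.{u}}

theorem exists_Hpull_eq_zero (c : EtCoh.H X (EtCoh.Gm X) 1) (x : X) :
    ∃ U : X.Opens, x ∈ U ∧ ∀ [PreservesFiniteLimits (EtCoh.pull U.ι)],
      EtCore.Hpull U.ι (EtCoh.Gm X) 1 c = 0 := by
  let S := ShortComplex.mk (Injective.ι (EtCoh.Gm X)) (cokernel.π _) (cokernel.condition (Injective.ι (EtCoh.Gm X)))
  have hS : S.ShortExact := { exact := ShortComplex.exact_of_g_is_cokernel _ (cokernelIsCokernel _) }
  haveI hI : Injective S.X₂ := inferInstanceAs (Injective (Injective.under (EtCoh.Gm X)))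
  let E : Ext1 X := ⟨S.X₂, S.X₃, S.f, S.g, S.zero, hS⟩
  obtain ⟨z, rfl⟩ := Ext.covariant_sequence_exact₁ _ hS c (Ext.eq_zero_of_injective _) (rfl : 0 + 1 = 1)
  obtain ⟨φ, rfl⟩ := (Ext.mk₀_bijective _ _).2 z
  let adj := EtCore.constAdj X
  let q : E.Q.obj.obj (op (EtCoh.top X)) := adj.homEquiv _ _ φ ⟨1⟩
  obtain ⟨ι, W, y, hW, hy⟩ := exists_lift_opens E q
  obtain ⟨a, ha⟩ := hW x
  refine ⟨W a, ha, ?_⟩
  intro _
  let j : (W a).toScheme ⟶ X := (W a).ι
  let adjU := EtCore.constAdj (W a).toScheme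
  let k : EtCoh.top (W a).toScheme ⟶ (EtCoh.bc j).obj (opn (W a)) :=
    MorphismProperty.Over.homMk (pullback.lift (𝟙 (W a).toScheme) (𝟙 (W a).toScheme) rfl : (W a).toScheme ⟶ pullback (W a).ι j)
      (pullback.lift_snd _ _ _) trivial
  let y' : ((EtCoh.pull j).obj E.M).obj.obj (op (EtCoh.top (W a).toScheme)) :=
    (((EtCoh.pull j).obj E.M).obj.map k.op).hom
      ((((EtCoh.pullPushAdj j).unit.app E.M).hom.app (op (opn (W a)))).hom (y a))
  let ψ : EtCoh.const (W a).toScheme ℤ ⟶ (EtCoh.pull j).obj S.X₂ :=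
    (adjU.homEquiv _ _).symm ((AddCommGrpCat.uliftZMultiplesAddEquiv _).symm y')
  have hψ : (EtCore.pullConst j ℤ).inv ≫ (EtCoh.pull j).map φ = ψ ≫ (EtCoh.pull j).map S.g := by
    apply (adjU.homEquiv _ _).injective
    rw [Adjunction.homEquiv_naturality_right, Adjunction.homEquiv_naturality_right,
      EtMVLib.homEquiv_pullConst_inv, Equiv.apply_symm_apply]
    apply (AddCommGrpCat.uliftZMultiplesAddEquiv _).injective
    have h1 : ((EtCore.gsec (W a).toScheme).map ((EtCoh.pull j).map φ)).hom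
        (((EtMVLib.pullSec j).app (EtCoh.const X ℤ)).hom ((adj.unit.app (AddCommGrpCat.of (ULift.{u+1} ℤ))).hom ⟨1⟩)) =
        ((EtMVLib.pullSec j).app S.X₃).hom q := by
      refine (ConcreteCategory.congr_hom ((EtMVLib.pullSec j).naturality φ) _).symm.trans ?_
      rfl
    refine Eq.trans h1 ?_
    refine Eq.symm ((congrArg ((EtCore.gsec (W a).toScheme).map ((EtCoh.pull j).map S.g)).hom
      ((AddCommGrpCat.uliftZMultiplesAddEquiv _).apply_symm_apply y')).trans ?_)
    let K := (EtCoh.pull j).obj S.X₃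
    let η := (EtCoh.pullPushAdj j).unit
    let ζ : K.obj.obj (op ((EtCoh.bc j).obj (EtCoh.top X))) :=
      ((η.app S.X₃).hom.app (op (EtCoh.top X))).hom q
    refine (NatTrans.naturality_apply ((EtCoh.pull j).map S.g).hom k.op _).trans ?_
    have h2 : ((((EtCoh.pull j).map S.g).hom.app (op ((EtCoh.bc j).obj (opn (W a))))).hom
        (((η.app E.M).hom.app (op (opn (W a)))).hom (y a))) =
        (K.obj.map ((EtCoh.bc j).map (toTop (W a))).op).hom ζ := by
      refine (ConcreteCategory.congr_hom (congrArg (fun f : S.X₂ ⟶ (EtCoh.push j).obj K => f.hom.app (op (opn (W a))))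
        (η.naturality S.g)) (y a)).symm.trans ?_
      refine (congrArg ((η.app S.X₃).hom.app (op (opn (W a)))).hom (hy a)).trans ?_
      exact NatTrans.naturality_apply (η.app S.X₃).hom (toTop (W a)).op q
    refine (congrArg (K.obj.map k.op).hom h2).trans ?_
    refine (ConcreteCategory.congr_hom (K.obj.map_comp ((EtCoh.bc j).map (toTop (W a))).op k.op) ζ).symm.trans ?_
    exact congrArg (fun m => (K.obj.map (Quiver.Hom.op m)).hom ζ)
      ((EtCore.bcTopIsTerminal j).hom_ext (k ≫ (EtCoh.bc j).map (toTop (W a))) (EtCore.bcTopIso j).inv)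
  rw [EtMVLib.Hpull_apply, Ext.mapExactFunctor_comp, Ext.mapExactFunctor_mk₀, Ext.mapExactFunctor_extClass,
    Ext.mk₀_comp_mk₀_assoc, hψ]
  rw [← Ext.mk₀_comp_mk₀, Ext.comp_assoc_of_second_deg_zero]
  exact (congrArg (fun t => (Ext.mk₀ ψ).comp t _) (hS.map_of_exact (EtCoh.pull j)).comp_extClass).trans (Ext.comp_zero _ _ _ _ _)

end Groth.Agent.GmPic
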