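import Groth.Prelude.Def_EtGm
import Groth.Agent.EtLC12.GaAmitsur
import Groth.Agent.EtFound.OpenSubterminal
import Groth.Agent.GaExt.Alg

/-!
# Extensions by the multiplicative group on the small étale site: transition units over affine objects
-/

set_option autoImplicit false
set_option backward.isDefEq.respectTransparency false
set_option backward.isDefEq.respectTransparency.types false

universe u

open CategoryTheory CategoryTheory.Limits AlgebraicGeometry Opposite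

namespace Groth.Agent.GmPic

open Groth.Agent.EtFound Groth.Agent.EtLC12

variable {X : Scheme.{u}}

/-- A unit as a section of the multiplicative group. -/
noncomputable def ofUnit {Z : X.Etale} (u : (Γ(Z.left, ⊤))ˣ) : (EtCoh.Gm X).obj.obj (op Z) :=
  ULift.up (Additive.ofMul u)

/-- A section of the multiplicative group as a unit. -/
noncomputable def toUnit {Z : X.Etale} (s : (EtCoh.Gm X).obj.obj (op Z)) : (Γ(Z.left, ⊤))ˣ :=
  (ULift.down s).toMul

theorem ofUnit_toUnit {Z : X.Etale} (s : (EtCoh.Gm X).obj.obj (op Z)) : ofUnit (toUnit s) = s := rfl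

theorem ofUnit_mul {Z : X.Etale} (u v : (Γ(Z.left, ⊤))ˣ) : ofUnit (u * v) = ofUnit u + ofUnit v := rfl

theorem ofUnit_one {Z : X.Etale} : ofUnit (1 : (Γ(Z.left, ⊤))ˣ) = 0 := rfl

theorem ofUnit_injective {Z : X.Etale} : Function.Injective (ofUnit (Z := Z)) := fun _ _ h =>
  congrArg toUnit h

theorem res_ofUnit {Z Z' : X.Etale} (h : Z' ⟶ Z) (u : (Γ(Z.left, ⊤))ˣ) :
    (EtCoh.Gm X).obj.map h.op (ofUnit u) = ofUnit (Units.map h.left.appTop.hom.toMonoidHom u) := rfl

/-- An extension by the multiplicative group. -/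
structure Ext1 (X : Scheme.{u}) where
  /-- The middle sheaf. -/
  M : EtCoh.Ab X
  /-- The quotient. -/
  Q : EtCoh.Ab X
  /-- The inclusion. -/
  i : EtCoh.Gm X ⟶ M
  /-- The projection. -/
  q : M ⟶ Q
  zero : i ≫ q = 0
  shortExact : (ShortComplex.mk i q zero).ShortExact

variable (E : Ext1 X)

/-- Restriction in the middle sheaf. -/
noncomputable abbrev Ext1.res {Z Z' : X.Etale} (h : Z' ⟶ Z) : E.M.obj.obj (op Z) →+ E.M.obj.obj (op Z') :=
  (E.M.obj.map h.op).hom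

/-- Restriction in the quotient. -/
noncomputable abbrev Ext1.resQ {Z Z' : X.Etale} (h : Z' ⟶ Z) : E.Q.obj.obj (op Z) →+ E.Q.obj.obj (op Z') :=
  (E.Q.obj.map h.op).hom

/-- The projection on sections. -/
noncomputable abbrev Ext1.qs (Z : X.Etale) : E.M.obj.obj (op Z) →+ E.Q.obj.obj (op Z) :=
  (E.q.hom.app (op Z)).hom

/-- A unit as a section of the middle sheaf. -/
noncomputable def Ext1.inc {Z : X.Etale} (u : (Γ(Z.left, ⊤))ˣ) : E.M.obj.obj (op Z) :=
  (E.i.hom.app (op Z)).hom (ofUnit u)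

theorem Ext1.inc_mul {Z : X.Etale} (u v : (Γ(Z.left, ⊤))ˣ) : E.inc (u * v) = E.inc u + E.inc v := by
  rw [Ext1.inc, ofUnit_mul, map_add]
  rfl

theorem Ext1.inc_one {Z : X.Etale} : E.inc (1 : (Γ(Z.left, ⊤))ˣ) = 0 := by
  rw [Ext1.inc, ofUnit_one, map_zero]

theorem Ext1.inc_inv {Z : X.Etale} (u : (Γ(Z.left, ⊤))ˣ) : E.inc u⁻¹ = - E.inc u :=
  eq_neg_of_add_eq_zero_left (by rw [← E.inc_mul, inv_mul_cancel, E.inc_one])

theorem Ext1.qs_inc {Z : X.Etale} (u : (Γ(Z.left, ⊤))ˣ) : E.qs Z (E.inc u) = 0 :=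
  congrArg (fun φ : EtCoh.Gm X ⟶ E.Q => (φ.hom.app (op Z)).hom (ofUnit u)) E.zero

theorem Ext1.inc_injective {Z : X.Etale} : Function.Injective (E.inc (Z := Z)) := fun a b h => by
  haveI : Mono E.i := E.shortExact.mono_f
  exact ofUnit_injective (SiteBase.sheaf_app_injective E.i Z h)

theorem Ext1.exists_inc {Z : X.Etale} (y : E.M.obj.obj (op Z)) (hy : E.qs Z y = 0) :
    ∃ u : (Γ(Z.left, ⊤))ˣ, E.inc u = y := by
  obtain ⟨x, hx⟩ := (SiteBase.secExact_iff (ShortComplex.mk E.i E.q E.zero) Z).1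
    (E.shortExact.exact.map_of_mono_of_preservesKernel
      (sheafToPresheaf X.smallEtaleTopology AddCommGrpCat.{u + 1} ⋙
        (evaluation X.Etaleᵒᵖ AddCommGrpCat.{u + 1}).obj (op Z))
      (haveI : Mono E.i := E.shortExact.mono_f; inferInstanceAs (Mono E.i)) inferInstance) y hy
  exact ⟨toUnit x, hx⟩

theorem Ext1.res_inc {Z Z' : X.Etale} (h : Z' ⟶ Z) (u : (Γ(Z.left, ⊤))ˣ) :
    E.res h (E.inc u) = E.inc (Units.map h.left.appTop.hom.toMonoidHom u) :=
  (ConcreteCategory.congr_hom (E.i.hom.naturality h.op) (ofUnit u)).symm.trans rfl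

theorem Ext1.qs_res {Z Z' : X.Etale} (h : Z' ⟶ Z) (y : E.M.obj.obj (op Z)) :
    E.qs Z' (E.res h y) = E.resQ h (E.qs Z y) :=
  ConcreteCategory.congr_hom (E.q.hom.naturality h.op) y

theorem Ext1.res_res {Z Z' Z'' : X.Etale} (h : Z' ⟶ Z) (h' : Z'' ⟶ Z') (y : E.M.obj.obj (op Z)) :
    E.res h' (E.res h y) = E.res (h' ≫ h) y :=
  (ConcreteCategory.congr_hom (E.M.obj.map_comp h.op h'.op) y).symm

theorem Ext1.resQ_resQ {Z Z' Z'' : X.Etale} (h : Z' ⟶ Z) (h' : Z'' ⟶ Z') (y : E.Q.obj.obj (op Z)) :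
    E.resQ h' (E.resQ h y) = E.resQ (h' ≫ h) y :=
  (ConcreteCategory.congr_hom (E.Q.obj.map_comp h.op h'.op) y).symm

end Groth.Agent.GmPic
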