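import Groth.Agent.GmPic.Local
import Groth.Agent.H23.CocycleMod
import Groth.Agent.InvX.GenLocusPull

/-!
# Global lifting and the Picard group
-/

set_option autoImplicit false
set_option backward.isDefEq.respectTransparency false
set_option backward.isDefEq.respectTransparency.types false
set_option linter.style.haveILetI false

universe u

open CategoryTheory CategoryTheory.Limits AlgebraicGeometry Opposite TopologicalSpace

namespace Groth.Agent.GmPic

open Groth.Agent.EtFound AModX InvX H23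

variable {X : Scheme.{u}}

/-- The morphism from an open to the final object. -/
noncomputable def toTop (W : X.Opens) : opn W ⟶ EtCoh.top X :=
  MorphismProperty.Over.homMk W.ι (Category.comp_id _) trivial

theorem hom_top_ext {V : X.Etale} (a b : V ⟶ EtCoh.top X) : a = b := (EtCore.topIsTerminal X).hom_ext a b

/-- Units on an open. -/
noncomputable def uo (W : X.Opens) : (Γ(X, W))ˣ ≃* (Γ((opn W).left, ⊤))ˣ :=
  Units.mapEquiv W.topIso.commRingCatIsoToRingEquiv.symm.toMulEquiv

theorem uo_res {W W' : X.Opens} (h : W ≤ W') (u : (Γ(X, W'))ˣ) :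
    Units.map (opnLE h).left.appTop.hom.toMonoidHom (uo W' u) = uo W (Units.map (resR h).toMonoidHom u) := by
  apply Units.ext
  have e : W'.topIso.inv ≫ (X.homOfLE h).appTop = X.presheaf.map (homOfLE h).op ≫ W.topIso.inv := by
    rw [Scheme.homOfLE_appTop, Scheme.Opens.topIso_inv, Scheme.Opens.topIso_inv]
    erw [← Functor.map_comp, ← Functor.map_comp]
    rfl
  exact congrArg (fun m => m.hom (u : Γ(X, W'))) e

theorem cover_top {ι : Type u} (U : ι → X.Opens) (hU : ∀ p, ∃ a, p ∈ U a) :
    ∀ p : (EtCoh.top X).left, ∃ (a : ι) (v : (opn (U a)).left), (toTop (U a)).left.base v = p := fun p => by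
  obtain ⟨a, ha⟩ := hU p
  exact ⟨a, ⟨p, ha⟩, rfl⟩

theorem factor_inf {V : X.Etale} {W W' : X.Opens} (a : V ⟶ opn W) (b : V ⟶ opn W') :
    ∃ m : V ⟶ opn (W ⊓ W'), m ≫ opnLE inf_le_left = a ∧ m ≫ opnLE inf_le_right = b := by
  obtain ⟨m⟩ := (nonempty_hom_ofOpen_iff (W ⊓ W') V).2 fun v =>
    ⟨(nonempty_hom_ofOpen_iff W V).1 ⟨a⟩ v, (nonempty_hom_ofOpen_iff W' V).1 ⟨b⟩ v⟩
  exact ⟨m, hom_opn_ext _ _, hom_opn_ext _ _⟩

variable (E : Ext1 X)

theorem res_inc_uo {W W' : X.Opens} (h : W ≤ W') (u : (Γ(X, W'))ˣ) :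
    E.res (opnLE h) (E.inc (uo W' u)) = E.inc (uo W (Units.map (resR h).toMonoidHom u)) := by
  rw [E.res_inc, uo_res]

theorem inc_uo_injective (W : X.Opens) : Function.Injective fun u => E.inc (uo W u) := fun _ _ h =>
  (uo W).injective (E.inc_injective h)

/-- Sections of the quotient lift on an open cover. -/
theorem exists_lift_opens (z : E.Q.obj.obj (op (EtCoh.top X))) :
    ∃ (ι : Type u) (U : ι → X.Opens) (y : ∀ a, E.M.obj.obj (op (opn (U a)))),
      (∀ p, ∃ a, p ∈ U a) ∧ ∀ a, E.qs _ (y a) = E.resQ (toTop (U a)) z := by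
  have key : ∀ p : X, ∃ W : X.Opens, p ∈ W ∧ ∃ y, E.qs (opn W) y = E.resQ (toTop W) z := by
    intro p
    obtain ⟨V, hV, hpV, -⟩ := exists_isAffineOpen_mem_and_subset (U := (⊤ : X.Opens)) (x := p) trivial
    obtain ⟨W, hW, hpW, y, hy⟩ := exists_lift_nhd E hV (E.resQ (toTop V) z) hpV
    exact ⟨W, hpW, y, by rw [hy, E.resQ_resQ, hom_top_ext (opnLE hW ≫ toTop V) (toTop W)]⟩
  choose W hW y hy using key
  exact ⟨X, W, y, fun p => ⟨p, hW p⟩, hy⟩

/-- If every invertible module is trivial, sections of the quotient lift globally. -/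
theorem exists_lift_top_of_pic (hPic : ∀ L : X.Modules, PicF.IsInvertible L → Nonempty (L ≅ Coh.structureModule X))
    (z : E.Q.obj.obj (op (EtCoh.top X))) : ∃ y, E.qs (EtCoh.top X) y = z := by
  obtain ⟨ι, U, y, hU, hy⟩ := exists_lift_opens E z
  choose γ hγ using fun a b => E.exists_inc
    (E.res (opnLE (inf_le_left : U a ⊓ U b ≤ U a)) (y a) - E.res (opnLE (inf_le_right : U a ⊓ U b ≤ U b)) (y b))
    (by rw [map_sub, E.qs_res, E.qs_res, hy, hy, E.resQ_resQ, E.resQ_resQ, hom_top_ext (_ ≫ toTop (U a)) (_ ≫ toTop (U b)), sub_self])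
  let g : ∀ a b, (Γ(X, U a ⊓ U b))ˣ := fun a b => (uo _).symm (γ a b)
  have hg : ∀ a b (W : X.Opens) (ha : W ≤ U a) (hb : W ≤ U b),
      E.inc (uo W (Units.map (resR (le_inf ha hb)).toMonoidHom (g a b))) =
        E.res (opnLE ha) (y a) - E.res (opnLE hb) (y b) := by
    intro a b W ha hb
    rw [← res_inc_uo, MulEquiv.apply_symm_apply, hγ, map_sub, E.res_res, E.res_res,
      hom_opn_ext (opnLE (le_inf ha hb) ≫ opnLE inf_le_left) (opnLE ha),
      hom_opn_ext (opnLE (le_inf ha hb) ≫ opnLE inf_le_right) (opnLE hb)]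
  let t : CocycleMod.Cocycle U :=
    { g := g
      trans := fun i j k W hi hj hk => by
        refine congrArg Units.val (a₁ := Units.map (resR (le_inf hi hk)).toMonoidHom (g i k))
          (a₂ := Units.map (resR (le_inf hj hk)).toMonoidHom (g j k) *
            Units.map (resR (le_inf hi hj)).toMonoidHom (g i j)) (inc_uo_injective E W ?_)
        show E.inc _ = E.inc _
        rw [map_mul, E.inc_mul, hg i k W hi hk, hg j k W hj hk, hg i j W hi hj]
        abel }
  have hcov : iSup U = ⊤ := top_le_iff.1 fun p _ => Opens.mem_iSup.2 (hU p)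
  obtain ⟨φ⟩ := hPic _ (CocycleMod.isInvertible t hcov)
  let v : ∀ a, Γ(X, U a) := fun a => φ.hom.app (U a) (CocycleMod.frame t a)
  have hvu : ∀ a, IsUnit (v a) := fun a => by
    obtain ⟨r, hr⟩ := (CocycleMod.isFrame_frame t a).exists_coord le_rfl (φ.inv.app (U a) (1 : Γ(X, U a)))
    rw [res_self] at hr
    have h1 := congrArg (φ.hom.app (U a)) hr
    rw [Scheme.Modules.Hom.app_smul] at h1
    have h2 : φ.hom.app (U a) (φ.inv.app (U a) (1 : Γ(X, U a))) = (1 : Γ(X, U a)) := by
      have := congrArg (fun k : Coh.structureModule X ⟶ Coh.structureModule X => k.app (U a) (1 : Γ(X, U a))) φ.inv_hom_id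
      exact this
    rw [h2] at h1
    have h3 : (1 : Γ(X, U a)) = r * v a := h1
    exact IsUnit.of_mul_eq_one r (by rw [mul_comm]; exact h3.symm)
  let u : ∀ a, (Γ(X, U a))ˣ := fun a => (hvu a).unit
  have hu : ∀ a b, Units.map (resR (inf_le_left : U a ⊓ U b ≤ U a)).toMonoidHom (u a) =
      g a b * Units.map (resR (inf_le_right : U a ⊓ U b ≤ U b)).toMonoidHom (u b) := fun a b => by
    apply Units.ext
    have h1 := congrArg (φ.hom.app (U a ⊓ U b)) (CocycleMod.res_frame t a b)
    rw [Scheme.Modules.Hom.app_smul, app_res, app_res] at h1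
    exact h1
  let y' : ∀ a, E.M.obj.obj (op (opn (U a))) := fun a => y a - E.inc (uo _ (u a))
  have hcompat : Presieve.Arrows.Compatible (E.M.obj ⋙ forget AddCommGrpCat.{u + 1})
      (fun a => toTop (U a)) y' := by
    intro a b V p q _
    show E.res p (y' a) = E.res q (y' b)
    obtain ⟨m, hp, hq⟩ := factor_inf p q
    rw [← hp, ← hq, ← E.res_res, ← E.res_res]
    refine congrArg _ (sub_eq_zero.1 ?_)
    simp only [y', map_sub, res_inc_uo]
    rw [hu a b, map_mul, E.inc_mul]
    have h1 := hg a b (U a ⊓ U b) inf_le_left inf_le_right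
    rw [show Units.map (resR (le_inf (inf_le_left : U a ⊓ U b ≤ U a) inf_le_right)).toMonoidHom (g a b) = g a b from
      Units.ext (resR_self _)] at h1
    rw [h1]
    abel
  obtain ⟨x, hx, -⟩ := (Presieve.isSheafFor_arrows_iff _ _).1
    (isSheafFor_of_covers E.M _ _ (cover_top U hU)) _ hcompat
  refine ⟨x, (isSheafFor_of_covers E.Q _ _ (cover_top U hU)).isSeparatedFor.ext fun V v hv => ?_⟩
  obtain ⟨a⟩ := hv
  show E.resQ (toTop (U a)) (E.qs _ x) = E.resQ (toTop (U a)) z
  rw [← E.qs_res, show E.res (toTop (U a)) x = y' a from hx a, map_sub, hy, E.qs_inc, sub_zero]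

/-- A module with compatible frames on a cover is trivial. -/
theorem nonempty_iso_of_compatible_frames {L : X.Modules} {ι : Type u} (U : ι → X.Opens) (hU : ∀ p, ∃ a, p ∈ U a)
    (n : ∀ a, Γ(L, U a)) (hn : ∀ a, IsFrame (n a))
    (hc : ∀ a b, res L (inf_le_left : U a ⊓ U b ≤ U a) (n a) = res L (inf_le_right : U a ⊓ U b ≤ U b) (n b)) :
    Nonempty (L ≅ Coh.structureModule X) := by
  let o : ∀ a, Γ(Coh.structureModule X, U a) := fun a => show Γ(Coh.structureModule X, U a) from (1 : Γ(X, U a))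
  have ho : ∀ a, IsFrame (o a) := fun a V h => by
    have : (fun r : Γ(X, V) => r • res (Coh.structureModule X) h (o a)) =
        fun r => (show Γ(Coh.structureModule X, V) from r) := funext fun r => by
      show r * resR h 1 = r
      rw [map_one, mul_one]
    rw [this]
    exact Function.bijective_id
  have hone : ∀ (a : ι) (W : X.Opens) (h : W ≤ U a),
      res (Coh.structureModule X) h (o a) = (show Γ(Coh.structureModule X, W) from (1 : Γ(X, W))) :=
    fun a W h => map_one (resR h)
  have hcW : ∀ a b (W : X.Opens) (ha : W ≤ U a) (hb : W ≤ U b), res L hb (n b) = res L ha (n a) := by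
    intro a b W ha hb
    have h1 := congrArg (res L (le_inf ha hb)) (hc a b)
    rw [res_res, res_res] at h1
    exact h1.symm
  have h₁ : ∀ (a b : ι) (W : X.Opens) (ha : W ≤ U a) (hb : W ≤ U b) (g : Γ(X, W)),
      res L hb (n b) = g • res L ha (n a) →
        res (Coh.structureModule X) hb (o b) = g • res (Coh.structureModule X) ha (o a) := by
    intro a b W ha hb g hg
    rw [hcW a b W ha hb] at hg
    rw [show g = 1 from (hn a).coord_unique ha (by rw [one_smul, ← hg]), one_smul, hone, hone]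
  have h₂ : ∀ (a b : ι) (W : X.Opens) (ha : W ≤ U a) (hb : W ≤ U b) (g : Γ(X, W)),
      res (Coh.structureModule X) hb (o b) = g • res (Coh.structureModule X) ha (o a) →
        res L hb (n b) = g • res L ha (n a) := by
    intro a b W ha hb g hg
    rw [show g = 1 from (ho a).coord_unique ha (by rw [one_smul, ← hg, hone, hone]), one_smul, hcW a b W ha hb]
  exact ⟨⟨InvX.ofFrames (e := n) (n := o) hU hn h₁, InvX.ofFrames (e := o) (n := n) hU ho h₂,
    InvX.hom_ext_of_frames U hU n hn fun a => by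
      show (InvX.ofFrames hU ho h₂).app (U a) ((InvX.ofFrames hU hn h₁).app (U a) (n a)) = n a
      rw [InvX.ofFrames_app, InvX.ofFrames_app],
    InvX.hom_ext_of_frames U hU o ho fun a => by
      show (InvX.ofFrames hU hn h₁).app (U a) ((InvX.ofFrames hU ho h₂).app (U a) (o a)) = o a
      rw [InvX.ofFrames_app, InvX.ofFrames_app]⟩⟩

/-- If sections of the quotient always lift globally, for an extension with injective middle sheaf,
invertible modules are trivial. -/
theorem pic_of_exists_lift_top [Injective E.M.obj]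
    (hlift : ∀ z : E.Q.obj.obj (op (EtCoh.top X)), ∃ y, E.qs (EtCoh.top X) y = z)
    (L : X.Modules) (hL : PicF.IsInvertible L) : Nonempty (L ≅ Coh.structureModule X) := by
  classical
  choose U hxU e he using fun x => InvX.exists_frame hL x
  have hU : ∀ p : X, ∃ a, p ∈ U a := fun p => ⟨p, hxU p⟩
  choose g₀ hg₀ using fun (a b : X) =>
    (he b).exists_coord (inf_le_right : U a ⊓ U b ≤ U b) (res L (inf_le_left : U a ⊓ U b ≤ U a) (e a))
  have hgW : ∀ a b (W : X.Opens) (ha : W ≤ U a) (hb : W ≤ U b),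
      res L ha (e a) = resR (le_inf ha hb) (g₀ a b) • res L hb (e b) := fun a b W ha hb => by
    have h1 := congrArg (res L (le_inf ha hb)) (hg₀ a b)
    rw [res_smul, res_res, res_res] at h1
    exact h1
  have hgu : ∀ a b, g₀ a b * resR (le_inf inf_le_right inf_le_left : U a ⊓ U b ≤ U b ⊓ U a) (g₀ b a) = 1 := fun a b =>
    (he a).coord_unique (inf_le_left : U a ⊓ U b ≤ U a) (by
      rw [one_smul, mul_smul, ← hgW b a (U a ⊓ U b) inf_le_right inf_le_left]
      exact (hg₀ a b).symm)
  let g : ∀ a b, (Γ(X, U a ⊓ U b))ˣ := fun a b => Units.mk _ _ (hgu a b) (by rw [mul_comm]; exact hgu a b)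
  have htrans : ∀ a b c (W : X.Opens) (ha : W ≤ U a) (hb : W ≤ U b) (hc : W ≤ U c),
      Units.map (resR (le_inf ha hc)).toMonoidHom (g a c) =
        Units.map (resR (le_inf ha hb)).toMonoidHom (g a b) * Units.map (resR (le_inf hb hc)).toMonoidHom (g b c) :=
    fun a b c W ha hb hc => Units.ext ((he c).coord_unique hc (by
      show resR _ (g₀ a c) • _ = (resR _ (g₀ a b) * resR _ (g₀ b c)) • _
      rw [mul_smul, ← hgW b c W hb hc, ← hgW a b W ha hb, ← hgW a c W ha hc]))
  -- a primitive in the injective sheaf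
  let P := E.M.obj
  let Q : X.Etaleᵒᵖ ⥤ AddCommGrpCat.{u + 1} :=
    { obj := fun V => AddCommGrpCat.of (∀ W : X.Etale, (W ⟶ V.unop) → P.obj (op W))
      map := fun f => AddCommGrpCat.ofHom
        { toFun := fun x W h => x W (h ≫ f.unop)
          map_zero' := rfl
          map_add' := fun _ _ => rfl }
      map_id := fun V => AddCommGrpCat.hom_ext <| AddMonoidHom.ext fun x => funext₂ fun W h =>
        congrArg (x W) (Category.comp_id h)
      map_comp := fun f g => AddCommGrpCat.hom_ext <| AddMonoidHom.ext fun x => funext₂ fun W h =>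
        congrArg (x W) (Category.assoc h _ _).symm }
  let j : P ⟶ Q :=
    { app := fun V => AddCommGrpCat.ofHom
        { toFun := fun s W h => (P.map h.op).hom s
          map_zero' := by funext W h; exact map_zero _
          map_add' := fun _ _ => by funext W h; exact map_add _ _ _ }
      naturality := fun V W f => AddCommGrpCat.hom_ext <| AddMonoidHom.ext fun s => funext fun W' => funext fun h =>
        congrArg (fun t => t.hom s) (P.map_comp f h.op).symm }
  haveI : Mono j := by
    have : ∀ V, Mono (j.app V) := fun V => (AddCommGrpCat.mono_iff_injective _).2 fun s s' hs => by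
      have h : (P.map (𝟙 V.unop).op).hom s = (P.map (𝟙 V.unop).op).hom s' := congrFun (congrFun hs V.unop) (𝟙 _)
      rwa [op_id, CategoryTheory.Functor.map_id] at h
    exact NatTrans.mono_of_mono_app _
  let ρ := Injective.factorThru (𝟙 P) j
  have hρ : j ≫ ρ = 𝟙 P := Injective.comp_factorThru _ _
  let c : ∀ {W : X.Etale}, (∃ a : X, Nonempty (W ⟶ opn (U a))) → X := fun h => h.choose
  let w : ∀ (a : X) (W : X.Etale) (h : W ⟶ opn (U a)), P.obj (op W) := fun a W h =>
    E.res (factor_inf h (Exists.choose_spec (p := fun b : X => Nonempty (W ⟶ opn (U b))) ⟨a, ⟨h⟩⟩).some).choose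
      (E.inc (uo _ (g a (c ⟨a, ⟨h⟩⟩))))
  let m : ∀ a, P.obj (op (opn (U a))) := fun a => (ρ.app (op (opn (U a)))).hom (w a)
  have hw : ∀ a b (W : X.Etale) (k : W ⟶ opn (U a ⊓ U b)),
      w a W (k ≫ opnLE inf_le_left) - w b W (k ≫ opnLE inf_le_right) = E.res k (E.inc (uo _ (g a b))) := by
    intro a b W k
    let cc := c (W := W) ⟨a, ⟨k ≫ opnLE inf_le_left⟩⟩
    have hcc : c (W := W) ⟨b, ⟨k ≫ opnLE inf_le_right⟩⟩ = cc := rfl
    obtain ⟨kc⟩ : Nonempty (W ⟶ opn (U cc)) :=
      Exists.choose_spec (p := fun b : X => Nonempty (W ⟶ opn (U b))) ⟨a, ⟨k ≫ opnLE inf_le_left⟩⟩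
    obtain ⟨k3, hk3, -⟩ := factor_inf k kc
    let D := U a ⊓ U b ⊓ U cc
    have e1 := congrArg (fun u => E.res k3 (E.inc (uo D u)))
      (htrans a b cc D (inf_le_left.trans inf_le_left) (inf_le_left.trans inf_le_right) inf_le_right)
    simp only [map_mul, E.inc_mul, map_add, ← res_inc_uo] at e1
    have key : ∀ {W' : X.Opens} (p : W ⟶ opn W') (h : D ≤ W') (s : P.obj (op (opn W'))),
        E.res p s = E.res k3 (E.res (opnLE h) s) :=
      fun p h s => by rw [E.res_res, hom_opn_ext p (k3 ≫ opnLE h)]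
    show E.res _ _ - E.res _ _ = _
    rw [sub_eq_iff_eq_add]
    refine ((key _ (le_inf (inf_le_left.trans inf_le_left) inf_le_right) _).trans e1).trans ?_
    exact (congrArg₂ (· + ·) (key _ (le_inf (inf_le_left.trans inf_le_left) (inf_le_left.trans inf_le_right)) _)
      (key _ (le_inf (inf_le_left.trans inf_le_right) inf_le_right) _)).symm
  have hm : ∀ a b, E.res (opnLE (inf_le_left : U a ⊓ U b ≤ U a)) (m a) -
      E.res (opnLE (inf_le_right : U a ⊓ U b ≤ U b)) (m b) = E.inc (uo _ (g a b)) := by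
    intro a b
    have n1 := ConcreteCategory.congr_hom (ρ.naturality (opnLE (inf_le_left : U a ⊓ U b ≤ U a)).op) (w a)
    have n2 := ConcreteCategory.congr_hom (ρ.naturality (opnLE (inf_le_right : U a ⊓ U b ≤ U b)).op) (w b)
    refine (congrArg₂ (· - ·) n1.symm n2.symm).trans ?_
    refine (map_sub (ρ.app _).hom _ _).symm.trans ?_
    refine Eq.trans ?_ (ConcreteCategory.congr_hom (congrArg (fun α : P ⟶ P => α.app (op (opn (U a ⊓ U b)))) hρ)
      (E.inc (uo _ (g a b))))
    exact congrArg (ρ.app (op (opn (U a ⊓ U b)))).hom (funext₂ fun W k => hw a b W k)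
  have hcompat : Presieve.Arrows.Compatible (E.Q.obj ⋙ forget AddCommGrpCat.{u + 1})
      (fun a => toTop (U a)) fun a => E.qs _ (m a) := by
    intro a b V p q _
    show E.resQ p (E.qs _ (m a)) = E.resQ q (E.qs _ (m b))
    obtain ⟨k, hp, hq⟩ := factor_inf p q
    rw [← hp, ← hq, ← E.resQ_resQ, ← E.resQ_resQ]
    refine congrArg (E.resQ k) ((E.qs_res _ (m a)).symm.trans (Eq.trans ?_ (E.qs_res _ (m b))))
    rw [← sub_eq_zero, ← map_sub, hm, E.qs_inc]
  obtain ⟨z, hz, -⟩ := (Presieve.isSheafFor_arrows_iff _ _).1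
    (isSheafFor_of_covers E.Q _ _ (cover_top U hU)) _ hcompat
  obtain ⟨y, hy⟩ := hlift z
  choose γ hγ using fun a => E.exists_inc (m a - E.res (toTop (U a)) y) (by
    rw [map_sub, E.qs_res, hy, show E.resQ (toTop (U a)) z = E.qs _ (m a) from hz a, sub_self])
  let u : ∀ a, (Γ(X, U a))ˣ := fun a => (uo _).symm (γ a)
  have hu : ∀ a b, g a b * Units.map (resR (inf_le_right : U a ⊓ U b ≤ U b)).toMonoidHom (u b) =
      Units.map (resR (inf_le_left : U a ⊓ U b ≤ U a)).toMonoidHom (u a) := fun a b => by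
    apply inc_uo_injective E
    show E.inc _ = E.inc _
    rw [map_mul, E.inc_mul, ← res_inc_uo, ← res_inc_uo, MulEquiv.apply_symm_apply, MulEquiv.apply_symm_apply,
      hγ, hγ, ← hm, map_sub, map_sub, E.res_res, E.res_res, hom_top_ext (_ ≫ toTop (U a)) (_ ≫ toTop (U b))]
    abel
  refine nonempty_iso_of_compatible_frames U hU (fun a => ((↑(u a)⁻¹ : Γ(X, U a))) • e a)
    (fun a => (he a).isUnit_smul (u a)⁻¹.isUnit) fun a b => ?_
  rw [res_smul, res_smul]
  refine (congrArg (_ • ·) (hgW a b (U a ⊓ U b) inf_le_left inf_le_right)).trans ?_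
  rw [← mul_smul]
  congr 1
  have e1 := congrArg (fun v => (v⁻¹ : (Γ(X, U a ⊓ U b))ˣ) * g a b) (hu a b)
  simp only [mul_inv_rev, inv_mul_cancel_right] at e1
  exact ((congrArg Units.val e1).trans (congrArg₂ (· * ·) rfl (resR_self _).symm)).symm

end Groth.Agent.GmPic
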