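import Groth.Agent.GmPic.Global

/-!
# The first étale cohomology of the multiplicative group and the Picard group
-/

set_option autoImplicit false
set_option backward.isDefEq.respectTransparency false
set_option backward.isDefEq.respectTransparency.types false
set_option linter.style.haveILetI false

universe u

open CategoryTheory CategoryTheory.Limits AlgebraicGeometry Opposite CategoryTheory.Abelian

namespace Groth.Agent.GmPic

theorem subsingleton_H1_iff (X : Scheme.{u}) :
    Subsingleton (EtCoh.H X (EtCoh.Gm X) 1) ↔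
      ∀ L : X.Modules, PicF.IsInvertible L → Nonempty (L ≅ Coh.structureModule X) := by
  let S := ShortComplex.mk (Injective.ι (EtCoh.Gm X)) (cokernel.π _) (cokernel.condition (Injective.ι (EtCoh.Gm X)))
  have hS : S.ShortExact := { exact := ShortComplex.exact_of_g_is_cokernel _ (cokernelIsCokernel _) }
  haveI hI : Injective S.X₂ := inferInstanceAs (Injective (Injective.under (EtCoh.Gm X)))
  let E : Ext1 X := ⟨S.X₂, S.X₃, S.f, S.g, S.zero, hS⟩
  haveI : Injective E.M.obj :=
    Injective.injective_of_adjoint (sheafificationAdjunction X.smallEtaleTopology AddCommGrpCat.{u + 1}) S.X₂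
  let adj := constantSheafAdj X.smallEtaleTopology AddCommGrpCat.{u + 1} (EtCore.topIsTerminal X)
  refine ⟨fun hH L hL => ?_, fun hPic => ?_⟩
  · haveI := hH
    refine pic_of_exists_lift_top E (fun z => ?_) L hL
    let φ := (adj.homEquiv _ _).symm ((AddCommGrpCat.uliftZMultiplesAddEquiv _).symm z)
    obtain ⟨ψ', hψ⟩ := Ext.covariant_sequence_exact₃ _ hS (Ext.mk₀ φ) (rfl : 0 + 1 = 1) (Subsingleton.elim _ _)
    obtain ⟨ψ, rfl⟩ := (Ext.mk₀_bijective _ _).2 ψ'
    rw [Ext.mk₀_comp_mk₀] at hψ
    have h1 := congrArg (adj.homEquiv _ _) ((Ext.mk₀_bijective _ _).1 hψ)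
    rw [Adjunction.homEquiv_naturality_right, Equiv.apply_symm_apply] at h1
    refine ⟨adj.homEquiv _ _ ψ ⟨1⟩, ?_⟩
    refine Eq.trans ?_ ((AddCommGrpCat.uliftZMultiplesAddEquiv _).apply_symm_apply z)
    exact congrArg (fun f => (AddCommGrpCat.uliftZMultiplesAddEquiv _) f) h1
  · refine subsingleton_of_forall_eq 0 fun x => ?_
    obtain ⟨z, rfl⟩ := Ext.covariant_sequence_exact₁ _ hS x (Ext.eq_zero_of_injective _) (rfl : 0 + 1 = 1)
    obtain ⟨φ, rfl⟩ := (Ext.mk₀_bijective _ _).2 z
    obtain ⟨a, ha⟩ := exists_lift_top_of_pic E hPic (adj.homEquiv _ _ φ ⟨1⟩)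
    have hφ : (adj.homEquiv _ _).symm ((AddCommGrpCat.uliftZMultiplesAddEquiv _).symm a) ≫ S.g = φ := by
      apply (adj.homEquiv _ _).injective
      rw [Adjunction.homEquiv_naturality_right, Equiv.apply_symm_apply]
      apply (AddCommGrpCat.uliftZMultiplesAddEquiv _).injective
      refine Eq.trans ?_ ha
      exact congrArg (S.g.hom.app (op (EtCoh.top X))) ((AddCommGrpCat.uliftZMultiplesAddEquiv _).apply_symm_apply a)
    rw [← hφ, ← Ext.mk₀_comp_mk₀, Ext.comp_assoc_of_second_deg_zero, hS.comp_extClass, Ext.comp_zero]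

end Groth.Agent.GmPic
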