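import Groth.Agent.GmPic.Trans
import Groth.Prelude.Def_EtZar

/-!
# Hilbert 90: a section of the quotient of an extension by the multiplicative group lifts Zariski locally
-/

set_option autoImplicit false
set_option backward.isDefEq.respectTransparency false
set_option backward.isDefEq.respectTransparency.types false
set_option linter.style.haveILetI false

universe u

open CategoryTheory CategoryTheory.Limits AlgebraicGeometry Opposite TopologicalSpace

namespace Groth.Agent.GmPic

open Groth.Agent.EtFound Groth.Agent.EtLC12 Groth.Agent.EtLC12.GaAmitsur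

variable {X : Scheme.{u}} (E : Ext1 X)

/-- An open as an object of the small étale site. -/
noncomputable abbrev opn (W : X.Opens) : X.Etale := (EtZar.zarToEt X).obj W

/-- The inclusion of opens. -/
noncomputable abbrev opnLE {W W' : X.Opens} (h : W ≤ W') : opn W ⟶ opn W' := (EtZar.zarToEt X).map (homOfLE h)

theorem hom_opn_ext {V : X.Etale} {W : X.Opens} (a b : V ⟶ opn W) : a = b :=
  @Subsingleton.elim _ (subsingleton_hom_ofOpen W V) a b

/-- The image of an object in the base. -/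
theorem exists_opn_image {W : X.Opens} {V : X.Etale} (e : V ⟶ opn W) :
    ∃ (W' : X.Opens) (h : W' ≤ W) (e' : V ⟶ opn W'), e' ≫ opnLE h = e ∧ Surjective e'.left ∧
      (W' : Set X) = Set.range V.hom.base := by
  haveI : AlgebraicGeometry.Etale V.hom := V.prop
  let W' : X.Opens := ⟨Set.range V.hom.base, (Scheme.Hom.isOpenMap V.hom).isOpen_range⟩
  have h : W' ≤ W := by
    rintro _ ⟨v, rfl⟩
    exact (nonempty_hom_ofOpen_iff W V).1 ⟨e⟩ v
  obtain ⟨e'⟩ := (nonempty_hom_ofOpen_iff W' V).2 fun v => ⟨v, rfl⟩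
  refine ⟨W', h, e', hom_opn_ext _ _, ⟨fun w => ?_⟩, rfl⟩
  obtain ⟨v, hv⟩ := w.2
  exact ⟨v, W'.ι.isOpenEmbedding.injective (show W'.ι.base (e'.left.base v) = W'.ι.base w from
    (apply_hom e' v).trans hv)⟩

/-- A section of the quotient lifts on one affine cover of an affine object. -/
theorem exists_lift_cover {V : X.Etale} [IsAffine V.left] (z : E.Q.obj.obj (op V)) :
    ∃ (Y : Over V) (t : E.M.obj.obj (op Y.left)), IsAffine Y.left.left ∧ Surjective Y.hom.left ∧
      E.qs Y.left t = E.resQ Y.hom z := by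
  haveI : Epi E.q := E.shortExact.epi_g
  have hloc : Presheaf.IsLocallySurjective X.smallEtaleTopology E.q.hom :=
    (Sheaf.isLocallySurjective_iff_epi' AddCommGrpCat.{u + 1} E.q).2 inferInstance
  obtain ⟨n, W, T, g, i, hT, hg, hR, hi, hcov, hdisj⟩ :=
    AffineCartan.exists_affine_refinement _ (hloc.imageSieve_mem (U := V) z)
  choose s hs using hR
  haveI := hi
  obtain ⟨t, ht⟩ := (bijective_sections_of_disjoint E.M W i hcov hdisj).2 s
  refine ⟨Over.mk g, t, hT, hg,
    (bijective_sections_of_disjoint E.Q W i hcov hdisj).1 (funext fun k => ?_)⟩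
  refine (NatTrans.naturality_apply E.q.hom (i k).op t).symm.trans ?_
  refine (congrArg _ (congrFun ht k)).trans ((hs k).trans ?_)
  rw [op_comp, Functor.map_comp]
  rfl

/-- **Hilbert 90**: a section of the quotient lifts near every point. -/
theorem exists_lift_nhd {W : X.Opens} (hW : IsAffineOpen W) (z : E.Q.obj.obj (op (opn W))) {x : X} (hx : x ∈ W) :
    ∃ (W' : X.Opens) (h : W' ≤ W), x ∈ W' ∧ ∃ y, E.qs (opn W') y = E.resQ (opnLE h) z := by
  classical
  haveI : IsAffine (opn W).left := hW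
  haveI : HasFiniteProducts (Over (opn W)) := hasFiniteProducts_of_has_binary_and_terminal
  obtain ⟨Y, t, hY, hsurj, ht⟩ := exists_lift_cover E (V := opn W) z
  haveI := hsurj
  haveI := faithfullyFlat_sec (opn W) Y
  obtain ⟨n, s, w, f, hs, -, hsw, hf⟩ := GaExt.exists_pairs (isCoc E z t ht)
  obtain ⟨x₀, hx₀⟩ : ∃ x₀ : (opn W).left, (opn W).hom.base x₀ = x := ⟨⟨x, hx⟩, rfl⟩
  obtain ⟨l, hl⟩ : ∃ l, x₀ ∈ (opn W).left.basicOpen (show Γ((opn W).left, ⊤) from f l) := by
    by_contra hne
    push Not at hne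
    have h0 : ∀ l, (opn W).left.presheaf.germ ⊤ x₀ trivial (show Γ((opn W).left, ⊤) from f l) ∈
        IsLocalRing.maximalIdeal ((opn W).left.presheaf.stalk x₀) := fun l =>
      (IsLocalRing.mem_maximalIdeal _).2 fun hu => hne l ((Scheme.mem_basicOpen (opn W).left (show Γ((opn W).left, ⊤) from f l) x₀ trivial).2 hu)
    have h1 : (opn W).left.presheaf.germ ⊤ x₀ trivial (∑ l, (show Γ((opn W).left, ⊤) from f l)) ∈
        IsLocalRing.maximalIdeal ((opn W).left.presheaf.stalk x₀) := by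
      rw [map_sum]
      exact Submodule.sum_mem _ fun l _ => h0 l
    rw [show (∑ l, (show Γ((opn W).left, ⊤) from f l)) = 1 from hf, map_one] at h1
    exact (IsLocalRing.mem_maximalIdeal _).1 h1 isUnit_one
  obtain ⟨y₀, hy₀⟩ := hsurj.1 x₀
  have hys : y₀ ∈ Y.left.left.basicOpen (show Γ(Y.left.left, ⊤) from s l) := by
    have h1 : y₀ ∈ Y.hom.left ⁻¹ᵁ (opn W).left.basicOpen (show Γ((opn W).left, ⊤) from f l) := by
      show Y.hom.left.base y₀ ∈ (opn W).left.basicOpen _
      rw [hy₀]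
      exact hl
    rw [show Y.hom.left ⁻¹ᵁ (opn W).left.basicOpen (show Γ((opn W).left, ⊤) from f l) =
      Y.left.left.basicOpen (Y.hom.left.app ⊤ (show Γ((opn W).left, ⊤) from f l)) from
        Scheme.preimage_basicOpen Y.hom.left _] at h1
    have h2 : Y.hom.left.app ⊤ (show Γ((opn W).left, ⊤) from f l) =
        (show Γ(Y.left.left, ⊤) from s l) * (show Γ(Y.left.left, ⊤) from w l) := hsw l
    have h3 : y₀ ∈ Y.left.left.basicOpen ((show Γ(Y.left.left, ⊤) from s l) * (show Γ(Y.left.left, ⊤) from w l)) :=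
      h2 ▸ h1
    rw [Scheme.basicOpen_mul] at h3
    exact h3.1
  let O := Y.left.left.basicOpen (show Γ(Y.left.left, ⊤) from s l)
  haveI : AlgebraicGeometry.Etale Y.left.hom := Y.left.prop
  let Ys : X.Etale := Scheme.Etale.mk (O.ι ≫ Y.left.hom)
  let ys : Ys ⟶ Y.left := MorphismProperty.Over.homMk O.ι rfl trivial
  have hsu : IsUnit (ys.left.appTop (show Γ(Y.left.left, ⊤) from s l)) := by
    have h1 : (Scheme.Opens.toScheme O).basicOpen (O.ι.appTop (show Γ(Y.left.left, ⊤) from s l)) = ⊤ := by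
      exact (Scheme.preimage_basicOpen O.ι (show Γ(Y.left.left, ⊤) from s l)).symm.trans O.ι_preimage_self
    exact (RingedSpace.isUnit_of_isUnit_germ _ _ _ fun p hp =>
      (Scheme.mem_basicOpen (Scheme.Opens.toScheme O) (O.ι.appTop (show Γ(Y.left.left, ⊤) from s l)) p trivial).1 (h1.ge trivial))
  obtain ⟨σ, hσ⟩ := hsu
  let t' : E.M.obj.obj (op Ys) := E.res ys t - E.inc σ
  obtain ⟨W', hW', e, he, hes, hWr⟩ := exists_opn_image (V := Ys) (ys ≫ Y.hom)
  have hqt : E.qs Ys t' = E.resQ (ys ≫ Y.hom) z := by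
    rw [map_sub, E.qs_inc, sub_zero, E.qs_res, ht, E.resQ_resQ]
  have hcover : Presieve.IsSheafFor (E.M.obj ⋙ forget AddCommGrpCat.{u + 1})
        (Presieve.ofArrows (fun _ : PUnit.{1} => Ys) fun _ => e) ∧
      Presieve.IsSheafFor (E.Q.obj ⋙ forget AddCommGrpCat.{u + 1})
        (Presieve.ofArrows (fun _ : PUnit.{1} => Ys) fun _ => e) := by
    refine ⟨isSheafFor_of_covers _ _ _ fun p => ?_, isSheafFor_of_covers _ _ _ fun p => ?_⟩ <;>
    · obtain ⟨v, hv⟩ := hes.1 p
      exact ⟨⟨⟩, v, hv⟩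
  have hcompat : Presieve.Arrows.Compatible (E.M.obj ⋙ forget AddCommGrpCat.{u + 1})
      (fun _ : PUnit.{1} => e) fun _ => t' := by
    intro _ _ T a b _
    show E.res a t' = E.res b t'
    let Z : Over (opn W) := Over.mk ((a ≫ ys) ≫ Y.hom)
    let p : Z ⟶ Y := Over.homMk (a ≫ ys) rfl
    let q : Z ⟶ Y := Over.homMk (b ≫ ys) (hom_opn_ext _ _)
    have key : (show (Γ(T.left, ⊤))ˣ from trans E z t ht p q) * Units.map a.left.appTop.hom.toMonoidHom σ =
        Units.map b.left.appTop.hom.toMonoidHom σ := by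
      apply Units.ext
      have h1 := congrArg (Algebra.TensorProduct.lift (secMap p) (secMap q) fun _ _ => Commute.all _ _) (hs l)
      rw [map_mul, Algebra.TensorProduct.lift_tmul, Algebra.TensorProduct.lift_tmul, map_one, map_one,
        mul_one, one_mul, ← trans_eq E z t ht p q] at h1
      rw [Units.val_mul]
      show _ * a.left.appTop.hom (σ : Γ(Ys.left, ⊤)) = b.left.appTop.hom (σ : Γ(Ys.left, ⊤))
      rw [hσ]
      exact h1
    have h2 := congrArg (E.inc (Z := T)) key
    rw [E.inc_mul, inc_trans E z t ht p q, ← E.res_inc a, ← E.res_inc b] at h2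
    show E.res a (E.res ys t - E.inc σ) = E.res b (E.res ys t - E.inc σ)
    rw [map_sub, map_sub, E.res_res, E.res_res, ← h2]
    show _ = _ - ((E.res (b ≫ ys) t - E.res (a ≫ ys) t) + _)
    abel
  obtain ⟨y, hy, -⟩ := (Presieve.isSheafFor_arrows_iff _ _).1 hcover.1 _ hcompat
  refine ⟨W', hW', ?_, y, hcover.2.isSeparatedFor.ext fun T v hv => ?_⟩
  · show x ∈ (W' : Set X)
    rw [hWr]
    exact ⟨⟨y₀, hys⟩, (congrArg _ (rfl : O.ι.base ⟨y₀, hys⟩ = y₀)).trans ((apply_hom Y.hom y₀).symm.trans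
      ((congrArg (opn W).hom.base hy₀).trans hx₀))⟩
  · obtain ⟨i⟩ := hv
    show E.resQ e (E.qs _ y) = E.resQ e (E.resQ (opnLE hW') z)
    rw [← E.qs_res, show E.res e y = t' from hy ⟨⟩, hqt, E.resQ_resQ, he]

end Groth.Agent.GmPic
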