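import Groth.Agent.GmPic.Basic

/-!
# The descent datum of a lift over an affine cover
-/

set_option autoImplicit false
set_option backward.isDefEq.respectTransparency false
set_option backward.isDefEq.respectTransparency.types false
set_option linter.style.haveILetI false

universe u

open CategoryTheory CategoryTheory.Limits AlgebraicGeometry Opposite TensorProduct

namespace Groth.Agent.GmPic

open Groth.Agent.EtFound Groth.Agent.EtLC12 Groth.Agent.EtLC12.GaAmitsur Groth.Agent.DescLib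

variable {X : Scheme.{u}} (E : Ext1 X) {U : X.Etale} {Y : Over U}
  (z : E.Q.obj.obj (op U)) (t : E.M.obj.obj (op Y.left)) (ht : E.qs Y.left t = E.resQ Y.hom z)

include ht in
theorem exists_trans {Z : Over U} (p q : Z ⟶ Y) :
    ∃ u : (Γ(Z.left.left, ⊤))ˣ, E.inc u = E.res q.left t - E.res p.left t :=
  E.exists_inc _ (by rw [map_sub, E.qs_res, E.qs_res, ht, E.resQ_resQ, E.resQ_resQ, Over.w, Over.w, sub_self])

/-- The transition unit between the pullbacks of a lift along two morphisms. -/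
noncomputable def trans {Z : Over U} (p q : Z ⟶ Y) : (Γ(Z.left.left, ⊤))ˣ := (exists_trans E z t ht p q).choose

theorem inc_trans {Z : Over U} (p q : Z ⟶ Y) :
    E.inc (trans E z t ht p q) = E.res q.left t - E.res p.left t :=
  (exists_trans E z t ht p q).choose_spec

theorem trans_self {Z : Over U} (p : Z ⟶ Y) : trans E z t ht p p = 1 :=
  E.inc_injective (by rw [inc_trans, sub_self, E.inc_one])

theorem trans_mul {Z : Over U} (p q r : Z ⟶ Y) :
    trans E z t ht q r * trans E z t ht p q = trans E z t ht p r :=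
  E.inc_injective (by rw [E.inc_mul, inc_trans, inc_trans, inc_trans, sub_add_sub_cancel])

theorem trans_comp {Z Z' : Over U} (h : Z' ⟶ Z) (p q : Z ⟶ Y) :
    Units.map h.left.left.appTop.hom.toMonoidHom (trans E z t ht p q) = trans E z t ht (h ≫ p) (h ≫ q) :=
  E.inc_injective (by rw [← E.res_inc, inc_trans, inc_trans, map_sub, E.res_res, E.res_res]; rfl)

variable [IsAffine U.left] [IsAffine Y.left.left] [HasFiniteProducts (Over U)]

/-- A morphism to `Spec` of a tensor power from a family of morphisms. -/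
theorem exists_toQ {n : ℕ} {Z : Over U} (p : Fin (n + 1) → (Z ⟶ Y)) :
    ∃ m : Z ⟶ Q Y n, (∀ k, m ≫ qπ Y n k = p k) ∧
      ∀ x : Sec (Q Y n), secMap m x = AmitsurAll.lift (fun k => secMap (p k)) (qSec Y n x) := by
  let φ : AmitsurAll.T Γ(U.left, ⊤) (Sec Y) n →ₐ[Γ(U.left, ⊤)] Sec Z := AmitsurAll.lift fun k => secMap (p k)
  have h : (Z.left.left.toSpecΓ ≫ Spec.map (CommRingCat.ofHom φ.toRingHom)) ≫
      (Spec.map (CommRingCat.ofHom
        (algebraMap Γ(U.left, ⊤) (AmitsurAll.T Γ(U.left, ⊤) (Sec Y) n))) ≫ U.left.isoSpec.inv) =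
      Z.hom.left := by
    have h0 : CommRingCat.ofHom (algebraMap Γ(U.left, ⊤) (AmitsurAll.T Γ(U.left, ⊤) (Sec Y) n)) ≫
        CommRingCat.ofHom φ.toRingHom = Z.hom.left.appTop :=
      CommRingCat.hom_ext (RingHom.ext fun r => AlgHom.commutes _ r)
    rw [Category.assoc, ← Category.assoc (Spec.map _), ← Spec.map_comp, h0,
      ← Scheme.toSpecΓ_naturality_assoc]
    simp
  let m : Z ⟶ Q Y n := Over.homMk (MorphismProperty.Over.homMk
    (Z.left.left.toSpecΓ ≫ Spec.map (CommRingCat.ofHom φ.toRingHom))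
    (by
      show _ ≫ ((_ ≫ _) ≫ U.hom) = Z.left.hom
      rw [← Category.assoc, h]
      exact MorphismProperty.Over.w Z.hom) trivial)
    (MorphismProperty.Over.Hom.ext h)
  refine ⟨m, fun k => ?_, fun x => ?_⟩
  · refine Over.OverMorphism.ext (MorphismProperty.Over.Hom.ext ?_)
    show (Z.left.left.toSpecΓ ≫ Spec.map (CommRingCat.ofHom φ.toRingHom)) ≫
      (Spec.map (CommRingCat.ofHom (AmitsurAll.incl Γ(U.left, ⊤) (Sec Y) n k).toRingHom) ≫
        Y.left.left.isoSpec.inv) = _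
    have h0 : CommRingCat.ofHom (AmitsurAll.incl Γ(U.left, ⊤) (Sec Y) n k).toRingHom ≫
        CommRingCat.ofHom φ.toRingHom = (p k).left.left.appTop :=
      CommRingCat.hom_ext (RingHom.ext fun a => AmitsurAll.lift_incl _ k a)
    rw [Category.assoc, ← Category.assoc (Spec.map _), ← Spec.map_comp, h0,
      ← Scheme.toSpecΓ_naturality_assoc]
    simp
  · have h1 : m.left.left.appTop = (Scheme.ΓSpecIso _).hom ≫ CommRingCat.ofHom φ.toRingHom := by
      show (_ ≫ Spec.map _).appTop = _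
      rw [Scheme.Hom.comp_appTop, Scheme.toSpecΓ_appTop, Scheme.ΓSpecIso_naturality]
    exact congrArg (fun ψ => ψ.hom x) h1

/-- The descent datum. -/
noncomputable def datum : (Sec Y : Type u) ⊗[Γ(U.left, ⊤)] (Sec Y : Type u) :=
  qSec Y 1 (trans E z t ht (qπ Y 1 0) (qπ Y 1 1) : Γ((Q Y 1).left.left, ⊤))

/-- The inverse descent datum. -/
noncomputable def datumInv : (Sec Y : Type u) ⊗[Γ(U.left, ⊤)] (Sec Y : Type u) :=
  qSec Y 1 (↑(trans E z t ht (qπ Y 1 0) (qπ Y 1 1))⁻¹ : Γ((Q Y 1).left.left, ⊤))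

/-- Every transition unit is an image of the datum. -/
theorem trans_eq {Z : Over U} (p q : Z ⟶ Y) :
    (show Sec Z from Units.val (trans E z t ht p q)) =
      Algebra.TensorProduct.lift (secMap p) (secMap q) (fun _ _ => Commute.all _ _) (datum E z t ht) := by
  obtain ⟨m, hm, hmx⟩ := exists_toQ (Y := Y) (n := 1) ![p, q]
  have h := congrArg Units.val (trans_comp E z t ht m (qπ Y 1 0) (qπ Y 1 1))
  rw [hm, hm] at h
  refine h.symm.trans ((hmx _).trans ?_)
  rfl

theorem isCoc : GaExt.IsCoc (datum E z t ht) (datumInv E z t ht) where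
  mul_eq := by
    show qSec Y 1 _ * qSec Y 1 _ = _
    rw [← map_mul]
    exact (congrArg (qSec Y 1) (Units.mul_inv _)).trans (map_one _)
  diag := by
    refine Eq.trans ?_ ((trans_eq E z t ht (𝟙 Y) (𝟙 Y)).symm.trans
      (congrArg Units.val (trans_self E z t ht (𝟙 Y))))
    refine DFunLike.congr_fun (f := Algebra.TensorProduct.lmul' Γ(U.left, ⊤))
      (Algebra.TensorProduct.ext' fun a b => ?_) _
    rw [Algebra.TensorProduct.lmul'_apply_tmul, Algebra.TensorProduct.lift_tmul]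
    rfl
  coc := by
    have key : ∀ i j : Fin 3, qSec Y 2 (trans E z t ht (qπ Y 2 i) (qπ Y 2 j) : Γ((Q Y 2).left.left, ⊤)) =
        (Algebra.TensorProduct.lift (AmitsurAll.incl Γ(U.left, ⊤) (Sec Y) 2 i)
          (AmitsurAll.incl Γ(U.left, ⊤) (Sec Y) 2 j) fun _ _ => Commute.all _ _) (datum E z t ht) := by
      intro i j
      refine (congrArg (qSec Y 2) (trans_eq E z t ht (qπ Y 2 i) (qπ Y 2 j))).trans ?_
      refine DFunLike.congr_fun (f := (qSec Y 2).comp (Algebra.TensorProduct.lift (secMap (qπ Y 2 i)) (secMap (qπ Y 2 j))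
        fun _ _ => Commute.all _ _)) (Algebra.TensorProduct.ext' fun a b => ?_) _
      refine Eq.trans ((congrArg (qSec Y 2) (Algebra.TensorProduct.lift_tmul _ _ (fun _ _ => Commute.all _ _) a b)).trans ?_)
        (Algebra.TensorProduct.lift_tmul _ _ _ a b).symm
      rw [map_mul, qSec_qπ, qSec_qπ]
    have e := congrArg Units.val (trans_mul E z t ht (qπ Y 2 0) (qπ Y 2 1) (qπ Y 2 2))
    rw [Units.val_mul] at e
    have e' := congrArg (qSec Y 2) e
    rw [map_mul, key, key, key] at e'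
    have h23 : ∀ x, (Algebra.TensorProduct.lift (AmitsurAll.incl Γ(U.left, ⊤) (Sec Y) 2 1)
        (AmitsurAll.incl Γ(U.left, ⊤) (Sec Y) 2 2) fun _ _ => Commute.all _ _) x =
        LineDesc.m23 Γ(U.left, ⊤) (Sec Y) x := DFunLike.congr_fun (Algebra.TensorProduct.ext' fun a b => by
      rw [Algebra.TensorProduct.lift_tmul]
      show ((1 : Sec Y) ⊗ₜ[Γ(U.left, ⊤)] (a ⊗ₜ[Γ(U.left, ⊤)] (1 : Sec Y))) *
        ((1 : Sec Y) ⊗ₜ[Γ(U.left, ⊤)] ((1 : Sec Y) ⊗ₜ[Γ(U.left, ⊤)] b)) = _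
      simp
      rfl)
    have h12 : ∀ x, (Algebra.TensorProduct.lift (AmitsurAll.incl Γ(U.left, ⊤) (Sec Y) 2 0)
        (AmitsurAll.incl Γ(U.left, ⊤) (Sec Y) 2 1) fun _ _ => Commute.all _ _) x =
        LineDesc.m12 Γ(U.left, ⊤) (Sec Y) x := DFunLike.congr_fun (Algebra.TensorProduct.ext' fun a b => by
      rw [Algebra.TensorProduct.lift_tmul]
      show (a ⊗ₜ[Γ(U.left, ⊤)] (1 : (Sec Y : Type u) ⊗[Γ(U.left, ⊤)] (Sec Y : Type u))) *
        ((1 : Sec Y) ⊗ₜ[Γ(U.left, ⊤)] (b ⊗ₜ[Γ(U.left, ⊤)] (1 : Sec Y))) = _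
      simp
      rfl)
    have h13 : ∀ x, (Algebra.TensorProduct.lift (AmitsurAll.incl Γ(U.left, ⊤) (Sec Y) 2 0)
        (AmitsurAll.incl Γ(U.left, ⊤) (Sec Y) 2 2) fun _ _ => Commute.all _ _) x =
        LineDesc.m13 Γ(U.left, ⊤) (Sec Y) x := DFunLike.congr_fun (Algebra.TensorProduct.ext' fun a b => by
      rw [Algebra.TensorProduct.lift_tmul]
      show (a ⊗ₜ[Γ(U.left, ⊤)] (1 : (Sec Y : Type u) ⊗[Γ(U.left, ⊤)] (Sec Y : Type u))) *
        ((1 : Sec Y) ⊗ₜ[Γ(U.left, ⊤)] ((1 : Sec Y) ⊗ₜ[Γ(U.left, ⊤)] b)) = _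
      simp
      rfl)
    rw [h23, h12, h13] at e'
    exact e'

end Groth.Agent.GmPic
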